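import Mathlib.CategoryTheory.Sites.Grothendieck
import Mathlib.CategoryTheory.Sites.Sieves

/-!
# Refining covering sieves by families with members in a covering class (helper5)
-/

set_option autoImplicit false
universe u

namespace Groth.Agent.H5.RlimMod

open CategoryTheory

variable {C : Type u} [SmallCategory C] {J : GrothendieckTopology C}

/-- If every object is covered by members of `B`, then every covering sieve contains a covering
family whose members are in `B`. -/
theorem exists_family_in (B : Set C)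
    (hB : ∀ U : C, ∃ (ι : Type u) (Y : ι → C) (f : ∀ i, Y i ⟶ U),
      Sieve.ofArrows Y f ∈ J U ∧ ∀ i, Y i ∈ B)
    (V : C) (T : Sieve V) (hT : T ∈ J V) :
    ∃ (ι : Type u) (Y : ι → C) (f : ∀ i, Y i ⟶ V), (∀ i, T.arrows (f i)) ∧
      Sieve.ofArrows Y f ∈ J V ∧ ∀ i, Y i ∈ B := by
  refine ⟨{p : Σ W : C, W ⟶ V // T.arrows p.2 ∧ p.1 ∈ B}, fun i => i.1.1, fun i => i.1.2,
    fun i => i.2.1, ?_, fun i => i.2.2⟩
  choose ι Y f hcov hYB using hB
  refine J.superset_covering ?_
    (J.bind_covering hT (R := fun W g _ => Sieve.ofArrows (Y W) (f W)) (fun W g _ => hcov W))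
  rintro W' k ⟨W, k', g, hg, hk', rfl⟩
  obtain ⟨j, k'', rfl⟩ := (Sieve.mem_ofArrows_iff (Y W) (f W) k').1 hk'
  rw [Category.assoc]
  apply Sieve.downward_closed
  exact Sieve.ofArrows_mk _ _
    (⟨⟨Y W j, f W j ≫ g⟩, T.downward_closed hg _, hYB W j⟩ :
      {p : Σ W : C, W ⟶ V // T.arrows p.2 ∧ p.1 ∈ B})

end Groth.Agent.H5.RlimMod
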