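import Groth.Agent.H5.RlimMod.ModSite
import Groth.Agent.H30.ExtDer
import Groth.Agent.H30.ModCech3
import Groth.Agent.S0864
import Groth.Agent.S0485
import Groth.Prelude.Def_FreeSh

/-!
# `Ext^k_O(j_! O_W, F)` versus `H^k(W, F_ab)` (helper5)
-/

set_option autoImplicit false
universe w' w u

namespace Groth.Agent.H5.RlimMod

open CategoryTheory Limits Opposite Abelian
open Groth.Agent.H5.HDULib

section Additive

variable {𝒜 ℬ : Type*} [Category 𝒜] [Category ℬ] [Preadditive 𝒜] [Preadditive ℬ]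
  [HasBinaryBiproducts 𝒜] (T : 𝒜 ⥤ ℬ) [T.Additive] (P : 𝒜) (P' : ℬ)
  (τ : ∀ M : 𝒜, (P ⟶ M) ≃ (P' ⟶ T.obj M))
  (hτ : ∀ {M M' : 𝒜} (a : P ⟶ M) (g : M ⟶ M'), τ M' (a ≫ g) = τ M a ≫ T.map g)

include hτ in
/-- A natural bijection between Hom functors along an additive functor is additive. -/
theorem natural_equiv_add {M : 𝒜} (a b : P ⟶ M) : τ M (a + b) = τ M a + τ M b := by
  have h1 : a + b = biprod.lift a b ≫ (biprod.fst + biprod.snd) := by
    rw [Preadditive.comp_add, biprod.lift_fst, biprod.lift_snd]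
  rw [h1, hτ, Functor.map_add, Preadditive.comp_add, ← hτ, ← hτ, biprod.lift_fst, biprod.lift_snd]

end Additive

variable {C : Type u} [SmallCategory C] {J : GrothendieckTopology C}
  (O : Sheaf J CommRingCat.{u})

instance enoughInjectives_mod : EnoughInjectives (ModSite.Mod O) :=
  Groth.Agent.S0485.result J (ModSite.ringSh O)

/-- `Hom(j_! O_W, M) ≃ Hom(ℤ_W, M_ab)`. -/
noncomputable def tauEquiv (W : C) (M : ModSite.Mod O) :
    (ModSite.freeOn O W ⟶ M) ≃ (CohCx.freeSheaf J W ⟶ ModSite.toAb M) :=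
  ((modSec O).eqv W M).trans (CohFree.homEquivSect J W (ModSite.toAb M)).symm.toEquiv

theorem tauEquiv_comp (W : C) {M M' : ModSite.Mod O} (a : ModSite.freeOn O W ⟶ M) (g : M ⟶ M') :
    tauEquiv O W M' (a ≫ g) =
      tauEquiv O W M a ≫ (SheafOfModules.toSheaf (ModSite.ringSh O)).map g := by
  change CohFree.ofSect J W _ ((modSec O).eqv W M' (a ≫ g)) =
    CohFree.ofSect J W _ ((modSec O).eqv W M a) ≫ _
  rw [(modSec O).eqv_comp W a g, ofSect_comp]
  rfl

/-- `Hom(j_! O_W, M) ≃+ Hom(ℤ_W, M_ab)`. -/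
noncomputable def tauAdd (W : C) (M : ModSite.Mod O) :
    (preadditiveCoyoneda.obj (op (ModSite.freeOn O W))).obj M ≃+
      (CohCx.freeSheaf J W ⟶ ModSite.toAb M) :=
  { tauEquiv O W M with
    map_add' := fun a b =>
      natural_equiv_add (SheafOfModules.toSheaf (ModSite.ringSh O)) (ModSite.freeOn O W)
        (CohCx.freeSheaf J W) (tauEquiv O W) (fun a g => tauEquiv_comp O W a g) a b }

/-- Comparison: `Ext^k` out of `j_! O_W` in `Mod(O)` is the cohomology over `W` of the underlying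
abelian sheaf. -/
theorem nonempty_ext_freeOn_iso (W : C) (F : ModSite.Mod O) (k : ℕ) :
    letI : HasExt.{u} (ModSite.Mod O) := hasExt_of_enoughInjectives.{u} (ModSite.Mod O)
    Nonempty (AddCommGrpCat.of (Ext.{u} (ModSite.freeOn O W) F k) ≅
      AddCommGrpCat.of (ModSite.HU O F k W)) := by
  letI : HasExt.{u} (ModSite.Mod O) := hasExt_of_enoughInjectives.{u} (ModSite.Mod O)
  haveI : PreservesFiniteColimits (SheafOfModules.toSheaf.{u} (ModSite.ringSh O)) :=
    Groth.Agent.H45.toSheaf_preservesFiniteColimits (ModSite.ringSh O)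
  let F₀ : ModSite.Mod O ⥤ AddCommGrpCat.{u} :=
    preadditiveCoyoneda.obj (op (ModSite.freeOn O W))
  obtain ⟨i₁⟩ := Groth.Agent.H30.ExtDer.main (𝟭 (ModSite.Mod O)) (ModSite.freeOn O W) F₀
    (fun M => AddEquiv.refl (ModSite.freeOn O W ⟶ M)) (fun g x => rfl)
    (fun I hI q e => by haveI := hI; exact Ext.eq_zero_of_injective e) k F
  obtain ⟨i₂⟩ := Groth.Agent.H30.ExtDer.main (SheafOfModules.toSheaf.{u} (ModSite.ringSh O))
    (CohCx.freeSheaf J W) F₀
    (fun M => tauAdd O W M) (fun g x => tauEquiv_comp O W x g)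
    (fun I hI q e => by
      haveI := hI
      have hs : Subsingleton (CohSite.HU (ModSite.toAb I) (q + 1) W) :=
        Groth.Agent.S0864.result _
          (Groth.Agent.H30.ModCech.isTotallyAcyclic_of_injective (ModSite.ringSh O) I) W q
      exact @Subsingleton.elim _ hs e 0) k F
  exact ⟨i₁ ≪≫ i₂.symm⟩

/-- Vanishing of `H^k(W, F_ab)` gives vanishing of `Ext^k_O(j_! O_W, F)`, in any universe. -/
theorem subsingleton_ext_freeOn [HasExt.{w'} (ModSite.Mod O)] (W : C) (F : ModSite.Mod O) (k : ℕ)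
    (h : Subsingleton (ModSite.HU O F k W)) :
    Subsingleton (Ext.{w'} (ModSite.freeOn O W) F k) := by
  letI hE : HasExt.{u} (ModSite.Mod O) := hasExt_of_enoughInjectives.{u} (ModSite.Mod O)
  obtain ⟨i⟩ := nonempty_ext_freeOn_iso O W F k
  have h1 : Subsingleton (@Ext _ _ _ hE (ModSite.freeOn O W) F k) :=
    (i.addCommGroupIsoToAddEquiv.toEquiv).subsingleton_congr.mpr h
  exact @Equiv.subsingleton _ _ (Ext.chgUniv.{u, w'} (X := ModSite.freeOn O W) (Y := F) (n := k)) h1
end Groth.Agent.H5.RlimMod
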