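import Groth.Agent.H5.RlimMod.Sec

/-!
# The core local statement for derived limits in an abelian category of sheaf type (helper5)

Port of `H33/RlimSite` (`local_cycle`, `core`) and of `S0880` to a `SecStr`.
-/

set_option autoImplicit false
universe w u

namespace Groth.Agent.H5.RlimMod

open CategoryTheory Limits Opposite DerivedCategory
open Groth.Agent.H5.HDULib Groth.Agent.H33.RlimSite

variable {C : Type u} [SmallCategory C] {J : GrothendieckTopology C}
  {𝒜 : Type (u + 1)} [Category.{u} 𝒜] [Abelian 𝒜] (S : SecStr J 𝒜)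

namespace SecStr

/-- `H^n(U, K)` for `K` in the derived category: morphisms `P U ⟶ K⟦n⟧`. -/
abbrev HDU [HasDerivedCategory.{w} 𝒜] (K : DerivedCategory 𝒜) (n : ℤ) (U : C) : Type w :=
  (DerivedCategory.singleFunctor 𝒜 0).obj (S.P U) ⟶ K⟦n⟧

/-- Local representation of a homology section killed by `H^m(f)`. -/
theorem local_cycle (M N : CochainComplex 𝒜 ℤ) (f : M ⟶ N) (m : ℤ)
    (V : C) (γ : S.Γ (M.homology m) V)
    (hγ : S.sc (HomologicalComplex.homologyMap f m) V γ = 0) :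
    ∃ T ∈ J V, ∀ (W : C) (i : W ⟶ V), T i →
      ∃ (z : S.Γ (M.X m) W) (b : S.Γ (N.X (m - 1)) W),
        S.sc (M.d m (m + 1)) W z = 0 ∧
        S.sc (f.f m) W z = S.sc (N.d (m - 1) m) W b ∧
        ∀ r : S.Γ (M.X (m - 1)) W, S.sc (M.d (m - 1) m) W r = z →
          S.rs (M.homology m) i γ = 0 := by
  have hls : Sheaf.IsLocallySurjective (S.T.map (M.homologyπ m)) :=
    S.isLocallySurjective_of_epi _
  have h1 : ∀ (W : C) (i : W ⟶ V), (Presheaf.imageSieve (S.T.map (M.homologyπ m)).hom γ) i →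
      ∃ ζ : S.Γ (M.cycles m) W,
        S.sc (M.homologyπ m) W ζ = S.rs (M.homology m) i γ := fun W i hi => hi
  choose ζ hζ using h1
  have hex : (ShortComplex.mk (N.toCycles (m - 1) m) (N.homologyπ m)
      (N.toCycles_comp_homologyπ _ _)).Exact :=
    ShortComplex.exact_of_g_is_cokernel _ (N.homologyIsCokernel (m - 1) m (by simp))
  have h2 : ∀ (W : C) (i : W ⟶ V)
      (hi : (Presheaf.imageSieve (S.T.map (M.homologyπ m)).hom γ) i),
      ∃ R ∈ J W, ∀ (W' : C) (j : W' ⟶ W), R j →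
        ∃ b : S.Γ (N.X (m - 1)) W', S.sc (N.toCycles (m - 1) m) W' b =
          S.rs (N.cycles m) j
            (S.sc (HomologicalComplex.cyclesMap f m) W (ζ W i hi)) := by
    intro W i hi
    apply S.locally_of_exact _ hex W (S.sc (HomologicalComplex.cyclesMap f m) W (ζ W i hi))
    change S.sc (N.homologyπ m) W (S.sc (HomologicalComplex.cyclesMap f m) W (ζ W i hi)) = 0
    rw [← sc_comp, ← HomologicalComplex.homologyπ_naturality, sc_comp, hζ, sc_map, hγ,
      map_zero]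
  choose R hR hR' using h2
  refine ⟨Sieve.bind (Presheaf.imageSieve (S.T.map (M.homologyπ m)).hom γ).arrows
      (fun W i hi => R W i hi),
    J.bind_covering (hls.imageSieve_mem γ) (fun W i hi => hR W i hi), ?_⟩
  rintro W' k ⟨W, j, i, hi, hj, rfl⟩
  obtain ⟨b, hb⟩ := hR' W i hi W' j hj
  refine ⟨S.sc (M.iCycles m) W' (S.rs (M.cycles m) j (ζ W i hi)), b, ?_, ?_, ?_⟩
  · rw [← sc_comp, M.iCycles_d, sc_zero]
  · rw [← sc_comp, ← HomologicalComplex.cyclesMap_i, sc_comp, sc_map, ← hb, ← sc_comp,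
      N.toCycles_i]
  · intro r hr
    have h3 : S.sc (M.toCycles (m - 1) m) W' r = S.rs (M.cycles m) j (ζ W i hi) := by
      apply S.sc_injective_of_mono (M.iCycles m) W'
      rw [← sc_comp, M.toCycles_i, hr]
    change ((S.T.obj (M.homology m)).obj.map (j ≫ i).op).hom γ = 0
    rw [op_comp, Functor.map_comp]
    change S.rs (M.homology m) j (S.rs (M.homology m) i γ) = 0
    rw [← hζ W i hi, ← sc_map, ← h3, ← sc_comp, M.toCycles_comp_homologyπ, sc_zero]

variable [IsGrothendieckAbelian.{u} 𝒜] [HasDerivedCategory.{w} 𝒜]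

/-- The core local statement: a section of `H^m(L)` over `V` killed by `H^m(a_{nV})` restricts to
zero on every member `W` of a suitable covering sieve for which the Milnor conditions hold. -/
theorem core (K : ℕ → DerivedCategory 𝒜) (t : ∀ n, K (n + 1) ⟶ K n)
    [HasProduct K] (L : DerivedCategory 𝒜) (a : ∀ n, L ⟶ K n)
    (hL : CohCx.IsRlimVia K t L a) (V : C) (m : ℤ) (nV : ℕ)
    (γ : S.Γ ((homologyFunctor 𝒜 m).obj L) V)
    (hγ : S.sc ((homologyFunctor 𝒜 m).map (a nV)) V γ = 0) :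
    ∃ T ∈ J V, ∀ (W : C) (i : W ⟶ V), T i →
      CohCx.LimOneIsZero (fun n => S.HDU (K n) (m - 1) W)
        (fun n => Preadditive.rightComp _ ((CategoryTheory.shiftFunctor _ (m - 1)).map (t n))) →
      (∀ k : ℕ, Function.Injective
        (Preadditive.rightComp _ ((CategoryTheory.shiftFunctor _ m).map (CohCx.transition K t nV k)) :
          S.HDU (K (nV + k)) m W → S.HDU (K nV) m W)) →
      S.rs ((homologyFunctor 𝒜 m).obj L) i γ = 0 := by
  obtain ⟨M, N, hM, hN, eL, eN, f, θL, θN, hf, sq⟩ := exists_models (a nV) m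
  have := hM
  have := hN
  have hγ' : S.sc (HomologicalComplex.homologyMap f m) V (S.sc θL.hom V γ) = 0 := by
    rw [← sc_comp, sq, sc_comp, hγ, map_zero]
  obtain ⟨T, hT, hT'⟩ := S.local_cycle M N f m V _ hγ'
  refine ⟨T, hT, fun W i hi hlim hinj => ?_⟩
  obtain ⟨z, b, hz, hzb, hfin⟩ := hT' W i hi
  have ha0 : S.ofS W _ z ≫ M.d m (m + 1) = 0 := by
    rw [← ofS_comp, hz, ofS_zero]
  have hy1 : cls (S.P W) M m (S.ofS W _ z) ha0 ≫ (Q.map f)⟦m⟧' = 0 := by
    rw [cls_postcomp, cls_eq_zero_iff _ N m _ _ (m - 1) (by simp)]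
    exact ⟨S.ofS W _ b, by rw [← ofS_comp, ← hzb, ofS_comp]⟩
  have hfe : eL.hom ≫ a nV = Q.map f ≫ eN.hom := by
    rw [hf, Category.assoc, Category.assoc, Iso.inv_hom_id, Category.comp_id]
  have hy2 : (cls (S.P W) M m (S.ofS W _ z) ha0 ≫ (eL.hom)⟦m⟧') ≫
      (a nV)⟦m⟧' = 0 := by
    rw [Category.assoc, ← Functor.map_comp, hfe, Functor.map_comp, ← Category.assoc, hy1,
      zero_comp]
  have hy3 := milnor_kill K t L a hL
    ((DerivedCategory.singleFunctor 𝒜 0).obj (S.P W))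
    m nV hlim hinj (cls (S.P W) M m (S.ofS W _ z) ha0 ≫ (eL.hom)⟦m⟧') hy2
  have hy4 : cls (S.P W) M m (S.ofS W _ z) ha0 = 0 := by
    rw [← cancel_mono ((eL.hom)⟦m⟧'), zero_comp]
    exact hy3
  obtain ⟨b', hb'⟩ := (cls_eq_zero_iff _ M m _ ha0 (m - 1) (by simp)).1 hy4
  have hr : S.sc (M.d (m - 1) m) W (S.ev W _ b') = z := by
    rw [← ev_comp, hb', ev_ofS]
  have h0 := hfin _ hr
  apply S.sc_injective_of_mono θL.hom W
  rw [sc_map, h0, map_zero]

/-- Port of `S0880`: injectivity of `H^m(L)(V) → H^m(K_{nV})(V)` under local Milnor conditions. -/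
theorem sections_injective (K : ℕ → DerivedCategory 𝒜) (t : ∀ n, K (n + 1) ⟶ K n) [HasProduct K]
    (L : DerivedCategory 𝒜) (a : ∀ n, L ⟶ K n) (hL : CohCx.IsRlimVia K t L a)
    (V : C) (m : ℤ) (nV : ℕ)
    (h : ∀ T ∈ J V, ∃ (ι : Type u) (Y : ι → C) (f : ∀ i, Y i ⟶ V), (∀ i, T.arrows (f i)) ∧
      Sieve.ofArrows Y f ∈ J V ∧ ∀ i,
        CohCx.LimOneIsZero (fun n => S.HDU (K n) (m - 1) (Y i))
          (fun n => Preadditive.rightComp _ ((CategoryTheory.shiftFunctor _ (m - 1)).map (t n))) ∧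
        ∀ k : ℕ, Function.Injective
          (Preadditive.rightComp _ ((CategoryTheory.shiftFunctor _ m).map (CohCx.transition K t nV k)) :
            S.HDU (K (nV + k)) m (Y i) → S.HDU (K nV) m (Y i))) :
    Function.Injective (S.sc ((homologyFunctor 𝒜 m).map (a nV)) V) := by
  refine (injective_iff_map_eq_zero (S.sc ((homologyFunctor 𝒜 m).map (a nV)) V)).2 ?_
  intro γ hγ
  obtain ⟨T, hT, hT'⟩ := S.core K t L a hL V m nV γ hγ
  obtain ⟨ι, Y, f, hf, hcov, hY⟩ := h T hT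
  refine S.isSeparated _ V _ hcov γ 0 ?_
  intro W g hg
  obtain ⟨i, k, rfl⟩ := (Sieve.mem_ofArrows_iff Y f g).1 hg
  have h0 := hT' (Y i) (f i) (hf i) (hY i).1 (hY i).2
  change ((S.T.obj _).obj.map (k ≫ f i).op).hom γ = ((S.T.obj _).obj.map (k ≫ f i).op).hom 0
  rw [op_comp, Functor.map_comp, map_zero]
  change S.rs _ k (S.rs _ (f i) γ) = 0
  rw [h0, map_zero]

end SecStr

end Groth.Agent.H5.RlimMod
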