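import Groth.Agent.H33.HMap
import Groth.Agent.H45.WeakSerreTri

/-!
# Vanishing of `Hom(P[0], X[m])` from a cohomological-dimension bound and a gap in the cohomology
of `X`; cones of maps that are isomorphisms on cohomology in a range (helper5)
-/

set_option autoImplicit false
universe w' w v u

namespace Groth.Agent.H5.RlimMod

open CategoryTheory Limits Opposite DerivedCategory
open Groth.Agent.H33.RlimTrunc Groth.Agent.H33.HMap

variable {A : Type u} [Category.{v} A] [Abelian A] [HasDerivedCategory.{w} A]

/-- `Hom(P[0], H^j(K)[0][k]) = 0` for all `j` and all `k > d`. -/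
def HAd (P : A) (K : DerivedCategory A) (d : ℕ) : Prop :=
  ∀ (j k : ℤ), (d : ℤ) < k → Subsingleton ((singleFunctor A 0).obj P ⟶
    ((singleFunctor A 0).obj ((homologyFunctor A j).obj K))⟦k⟧)

theorem HAd_of_iso_or_zero (P : A) (d : ℕ) {K K' : DerivedCategory A}
    (h : ∀ j, IsZero ((homologyFunctor A j).obj K') ∨
      Nonempty ((homologyFunctor A j).obj K' ≅ (homologyFunctor A j).obj K))
    (hK : HAd P K d) : HAd P K' d := by
  intro j k hk
  rcases h j with hz | ⟨⟨e⟩⟩
  · exact subsingleton_hom_of_isZero
      ((CategoryTheory.shiftFunctor _ k).map_isZero ((singleFunctor A 0).map_isZero hz))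
  · exact subsingleton_hom_of_iso
      ((CategoryTheory.shiftFunctor _ k).mapIso ((singleFunctor A 0).mapIso e)) (hK j k hk)

/-- Vanishing of `Hom(P[0], V[j])` for `j` above the amplitude of `V` plus `d`. -/
theorem vanishing_d (P : A) (d : ℕ) : ∀ (n : ℕ) (a : ℤ) (V : DerivedCategory A), V.IsGE a →
    V.IsLE (a + n - 1) → HAd P V d → ∀ j, a + n + d ≤ j →
    Subsingleton ((singleFunctor A 0).obj P ⟶ V⟦j⟧) := by
  intro n
  induction n with
  | zero =>
    intro a V hGE hLE _ j _
    haveI := hGE
    haveI := hLE
    have hz : IsZero V := TStructure.t.isZero V (a + (0 : ℕ) - 1) a (by simp)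
    exact subsingleton_hom_of_isZero ((CategoryTheory.shiftFunctor _ j).map_isZero hz)
  | succ n ih =>
    intro a V hGE hLE hA j hj
    haveI := hGE
    haveI := hLE
    have hT : Pretriangulated.Triangle.mk ((TStructure.t.truncLTι (a + 1)).app V)
        ((TStructure.t.truncGEπ (a + 1)).app V) ((TStructure.t.truncGEδLT (a + 1)).app V) ∈
        Pretriangulated.distinguishedTriangles :=
      TStructure.t.triangleLTGE_distinguished (a + 1) V
    have h1 : Subsingleton ((singleFunctor A 0).obj P ⟶
        ((TStructure.t.truncLT (a + 1)).obj V)⟦j⟧) := by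
      have hi := isIso_homology_truncLTι V (a + 1) a (by omega)
      apply subsingleton_hom_of_single P _ a inferInstance inferInstance j
      exact subsingleton_hom_of_iso ((CategoryTheory.shiftFunctor _ (j - a)).mapIso
        ((singleFunctor A 0).mapIso (@asIso _ _ _ _ _ hi))) (hA a (j - a) (by push_cast at hj; omega))
    have h3 : Subsingleton ((singleFunctor A 0).obj P ⟶
        ((TStructure.t.truncGE (a + 1)).obj V)⟦j⟧) := by
      have hLE' : ((TStructure.t.truncGE (a + 1)).obj V).IsLE (a + 1 + n - 1) := by
        have : V.IsLE (a + 1 + n - 1) := by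
          have e : a + 1 + (n : ℤ) - 1 = a + ((n + 1 : ℕ) : ℤ) - 1 := by push_cast; ring
          rw [e]
          exact hLE
        infer_instance
      refine ih (a + 1) _ inferInstance hLE' (HAd_of_iso_or_zero P d (fun i => ?_) hA) j
        (by push_cast at hj; omega)
      by_cases hi : a + 1 ≤ i
      · have hiso := isIso_homology_truncGEπ V (a + 1) i hi
        exact Or.inr ⟨(@asIso _ _ _ _ _ hiso).symm⟩
      · exact Or.inl (isZero_homology_truncGE V (a + 1) i (by omega))
    exact subsingleton_hom_mid _ hT _ j h1 h3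

/-- If `X` is bounded below, its cohomology objects have `P`-dimension `≤ d` and vanish in the
range `[m - d, m]`, then `Hom(P[0], X[m]) = 0`. -/
theorem subsingleton_hom_of_gap (P : A) (d : ℕ) (X : DerivedCategory A) (a : ℤ) (hX : X.IsGE a)
    (hA : HAd P X d) (m : ℤ)
    (hgap : ∀ q : ℤ, m - d ≤ q → q ≤ m → IsZero ((homologyFunctor A q).obj X)) :
    Subsingleton ((singleFunctor A 0).obj P ⟶ X⟦m⟧) := by
  haveI := hX
  haveI : X.IsGE (min a (m - d)) :=
    TStructure.t.isGE_of_ge X (min a (m - d)) a (min_le_left _ _)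
  have hT : Pretriangulated.Triangle.mk ((TStructure.t.truncLTι (m - d)).app X)
      ((TStructure.t.truncGEπ (m - d)).app X) ((TStructure.t.truncGEδLT (m - d)).app X) ∈
      Pretriangulated.distinguishedTriangles :=
    TStructure.t.triangleLTGE_distinguished (m - d) X
  -- third vertex: lives in degrees `> m`
  have h3 : Subsingleton ((singleFunctor A 0).obj P ⟶
      ((TStructure.t.truncGE (m - d)).obj X)⟦m⟧) := by
    have hGE : ((TStructure.t.truncGE (m - d)).obj X).IsGE (m + 1) := by
      rw [isGE_iff]
      intro i hi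
      by_cases hi' : m - d ≤ i
      · have hiso := isIso_homology_truncGEπ X (m - d) i hi'
        exact (hgap i hi' (by omega)).of_iso (@asIso _ _ _ _ _ hiso).symm
      · exact isZero_homology_truncGE X (m - d) i (by omega)
    haveI := hGE
    haveI := TStructure.t.isGE_shift ((TStructure.t.truncGE (m - d)).obj X) (m + 1) m 1
      (by omega)
    exact ⟨fun f g => by
      rw [TStructure.t.zero f 0 1 (by omega), TStructure.t.zero g 0 1 (by omega)]⟩
  -- first vertex: bounded, apply `vanishing_d`
  have h1 : Subsingleton ((singleFunctor A 0).obj P ⟶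
      ((TStructure.t.truncLT (m - d)).obj X)⟦m⟧) := by
    have hAV : HAd P ((TStructure.t.truncLT (m - d)).obj X) d := by
      refine HAd_of_iso_or_zero P d (fun i => ?_) hA
      by_cases hi : i < m - d
      · have hi1 := isIso_homology_truncLTι X (m - d) i hi
        exact Or.inr ⟨@asIso _ _ _ _ _ hi1⟩
      · exact Or.inl (isZero_homology_truncLT _ (m - d) i (by omega))
    have hn : (((m - d) - min a (m - d)).toNat : ℤ) = (m - d) - min a (m - d) :=
      Int.toNat_of_nonneg (by have := min_le_right a (m - d); omega)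
    have hLE' : ((TStructure.t.truncLT (m - d)).obj X).IsLE
        (min a (m - d) + (((m - d) - min a (m - d)).toNat : ℕ) - 1) :=
      TStructure.t.isLE_of_le _ (m - d - 1) _ (by omega)
    exact vanishing_d P d ((m - d) - min a (m - d)).toNat (min a (m - d)) _ inferInstance hLE'
      hAV m (by omega)
  exact subsingleton_hom_mid _ hT _ m h1 h3

/-! ## Cones -/

section Cone

open Pretriangulated

variable (T : Triangle (DerivedCategory A)) (hT : T ∈ distTriang (DerivedCategory A))

include hT in
/-- `H^q` of the cone vanishes when `H^q(mor₁)` is epi and `H^{q+1}(mor₁)` is mono. -/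
theorem isZero_homology_obj₃ (q : ℤ)
    (h1 : Epi ((homologyFunctor A q).map T.mor₁))
    (h2 : Mono ((homologyFunctor A (q + 1)).map T.mor₁)) :
    IsZero ((homologyFunctor A q).obj T.obj₃) :=
  (HomologySequence.exact₃ _ hT q (q + 1) rfl).isZero_of_both_zeros
    ((HomologySequence.epi_homologyMap_mor₁_iff _ hT q).1 h1)
    ((HomologySequence.mono_homologyMap_mor₁_iff _ hT q (q + 1) rfl).1 h2)

include hT in
theorem isGE_obj₃ (a : ℤ) (h1 : T.obj₁.IsGE (a + 1)) (h2 : T.obj₂.IsGE a) : T.obj₃.IsGE a := by
  rw [isGE_iff]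
  intro i hi
  exact (HomologySequence.exact₃ _ hT i (i + 1) rfl).isZero_of_both_zeros
    ((isZero_of_isGE T.obj₂ a i hi).eq_of_src _ _)
    ((isZero_of_isGE T.obj₁ (a + 1) (i + 1) (by omega)).eq_of_tgt _ _)

include hT in
/-- The cone of a map between objects with cohomology in a weak Serre subcategory has cohomology
in it. -/
theorem cohIn_obj₃ (P : ObjectProperty A) [WSerre.IsWeakSerre P]
    (h₁ : WSerre.cohIn P T.obj₁) (h₂ : WSerre.cohIn P T.obj₂) : WSerre.cohIn P T.obj₃ := by
  intro i
  exact Groth.Agent.H45.prop_of_five_term_exact P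
    ((homologyFunctor A i).map T.mor₁) ((homologyFunctor A i).map T.mor₂)
    (HomologySequence.δ T i (i + 1) rfl) ((homologyFunctor A (i + 1)).map T.mor₁)
    (by rw [← Functor.map_comp, comp_distTriang_mor_zero₁₂ _ hT, Functor.map_zero])
    (HomologySequence.comp_δ T hT i (i + 1) rfl)
    (HomologySequence.δ_comp T hT i (i + 1) rfl)
    (HomologySequence.exact₂ T hT i)
    (HomologySequence.exact₃ T hT i (i + 1) rfl)
    (HomologySequence.exact₁ T hT i (i + 1) rfl)
    (h₁ i) (h₂ i) (h₁ (i + 1)) (h₂ (i + 1))

end Cone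

end Groth.Agent.H5.RlimMod
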