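import Groth.Agent.H5.RlimMod.Trunc
import Groth.Agent.H5.RlimMod.Gap

/-!
# Cohomology sheaves of a derived limit of an eventually constant system (helper5)

Stacks, Cohomology on Sites, "eventually constant" lemma, in an abelian category of sheaf type.
-/

set_option autoImplicit false
universe w' w v u

namespace Groth.Agent.H5.RlimMod

open CategoryTheory Limits Opposite DerivedCategory
open Groth.Agent.H5.HDULib Groth.Agent.H33.RlimSite Groth.Agent.H33.RlimTrunc
  Groth.Agent.H33.HMap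

section General

variable {A : Type u} [Category.{v} A] [Abelian A] [HasDerivedCategory.{w} A]

open CochainComplex HomComplex in
theorem cls_sub (P : A) (M : CochainComplex A ℤ) [M.IsKInjective] (n : ℤ)
    (a a' : P ⟶ M.X n) (ha : a ≫ M.d n (n + 1) = 0) (ha' : a' ≫ M.d n (n + 1) = 0) :
    cls P M n (a - a') (by rw [Preadditive.sub_comp, ha, ha', sub_zero]) =
      cls P M n a ha - cls P M n a' ha' := by
  have e : Cocycle.fromSingleMk (a - a') (zero_add n) (n + 1) rfl
      (by rw [Preadditive.sub_comp, ha, ha', sub_zero]) =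
      Cocycle.fromSingleMk a (zero_add n) (n + 1) rfl ha -
        Cocycle.fromSingleMk a' (zero_add n) (n + 1) rfl ha' := by
    ext : 1
    simp [Cocycle.fromSingleMk, Cochain.fromSingleMk_sub]
  rw [cls, cls, cls, Θ_mk, Θ_mk, Θ_mk, e, map_sub, Functor.map_sub, Preadditive.sub_comp]

/-- Lifting homology classes along a morphism of K-injective complexes, given a lift of the
associated derived category classes. -/
theorem exists_homology_lift (P : A) (M N : CochainComplex A ℤ) [M.IsKInjective]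
    [N.IsKInjective] (f : M ⟶ N) (j : ℤ) (ζ : P ⟶ N.cycles j)
    (y : Q.obj ((CochainComplex.singleFunctor A 0).obj P) ⟶ (Q.obj M)⟦j⟧)
    (h : y ≫ (Q.map f)⟦j⟧' = cls P N j (ζ ≫ N.iCycles j)
      (by rw [Category.assoc, N.iCycles_d, comp_zero])) :
    ∃ t : P ⟶ M.homology j, t ≫ HomologicalComplex.homologyMap f j = ζ ≫ N.homologyπ j := by
  obtain ⟨a, ha, rfl⟩ := cls_surjective P M j y
  rw [cls_postcomp] at h
  have h0 : cls P N j (a ≫ f.f j - ζ ≫ N.iCycles j)
      (by rw [Preadditive.sub_comp, Category.assoc, Category.assoc, N.iCycles_d, comp_zero,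
        f.comm, ← Category.assoc, ha, zero_comp, sub_zero]) = 0 := by
    rw [cls_sub P N j _ _ (by rw [Category.assoc, f.comm, ← Category.assoc, ha, zero_comp])
      (by rw [Category.assoc, N.iCycles_d, comp_zero]), h, sub_self]
  obtain ⟨b, hb⟩ := (cls_eq_zero_iff P N j _ _ (j - 1) (by simp)).1 h0
  refine ⟨M.liftCycles a (j + 1) (by simp) ha ≫ M.homologyπ j, ?_⟩
  have h1 : M.liftCycles a (j + 1) (by simp) ha ≫ HomologicalComplex.cyclesMap f j =
      ζ + b ≫ N.toCycles (j - 1) j := by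
    rw [← cancel_mono (N.iCycles j), Category.assoc, HomologicalComplex.cyclesMap_i,
      HomologicalComplex.liftCycles_i_assoc, Preadditive.add_comp, Category.assoc,
      N.toCycles_i, hb]
    abel
  rw [Category.assoc, HomologicalComplex.homologyπ_naturality, ← Category.assoc, h1,
    Preadditive.add_comp, Category.assoc, N.toCycles_comp_homologyπ, comp_zero, add_zero]

variable [HasExt.{w'} A]

/-- The acyclicity hypothesis `HAd` from vanishing of `Ext` groups into a class of objects. -/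
theorem HAd_of_ext (P : A) (d : ℕ) (PA : ObjectProperty A)
    (hP : ∀ F : A, PA F → ∀ k : ℕ, d < k → Subsingleton (Abelian.Ext.{w'} P F k))
    (K : DerivedCategory A) (hK : WSerre.cohIn PA K) : HAd P K d := by
  intro j k hk
  obtain ⟨k', rfl⟩ : ∃ k' : ℕ, k = (k' : ℤ) := ⟨k.toNat, (Int.toNat_of_nonneg (by omega)).symm⟩
  haveI hs : Subsingleton (Abelian.Ext.{w'} P ((homologyFunctor A j).obj K) k') :=
    hP _ (hK j) k' (by exact_mod_cast hk)
  exact (Abelian.Ext.homEquiv (X := P) (Y := (homologyFunctor A j).obj K)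
    (n := k')).symm.subsingleton

open Pretriangulated in
/-- The cone of a map in `D^+_PA` which is an isomorphism on `H^q` for `q ∈ [m - d, m + 1]` has no
maps from `P[0]` to its `m`-th shift, if `P` has `Ext`-dimension `≤ d` on `PA`. -/
theorem subsingleton_hom_cone (P : A) (d : ℕ) (PA : ObjectProperty A) [WSerre.IsWeakSerre PA]
    (hP : ∀ F : A, PA F → ∀ k : ℕ, d < k → Subsingleton (Abelian.Ext.{w'} P F k))
    (T : Triangle (DerivedCategory A)) (hT : T ∈ distTriang (DerivedCategory A))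
    (h₁ : WSerre.cohInPlus PA T.obj₁) (h₂ : WSerre.cohInPlus PA T.obj₂) (m : ℤ)
    (hiso : ∀ q : ℤ, m - d ≤ q → q ≤ m + 1 → IsIso ((homologyFunctor A q).map T.mor₁)) :
    Subsingleton ((singleFunctor A 0).obj P ⟶ T.obj₃⟦m⟧) := by
  obtain ⟨a₁, ha₁⟩ := h₁.2
  obtain ⟨a₂, ha₂⟩ := h₂.2
  have ha₁ : T.obj₁.IsGE a₁ := ha₁
  have ha₂ : T.obj₂.IsGE a₂ := ha₂
  have hGE : T.obj₃.IsGE (min (a₁ - 1) a₂) :=
    isGE_obj₃ T hT _
      (TStructure.t.isGE_of_ge T.obj₁ _ a₁ (by have := min_le_left (a₁ - 1) a₂; omega))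
      (TStructure.t.isGE_of_ge T.obj₂ _ a₂ (min_le_right _ _))
  refine subsingleton_hom_of_gap P d T.obj₃ _ hGE
    (HAd_of_ext P d PA hP _ (cohIn_obj₃ T hT PA h₁.1 h₂.1)) m (fun q hq1 hq2 => ?_)
  haveI := hiso q hq1 (by omega)
  haveI := hiso (q + 1) (by omega) (by omega)
  exact isZero_homology_obj₃ T hT q inferInstance inferInstance

end General

section Site

variable {C : Type u} [SmallCategory C] {J : GrothendieckTopology C}
  {𝒜 : Type (u + 1)} [Category.{u} 𝒜] [Abelian 𝒜] (S : SecStr J 𝒜)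
  [HasDerivedCategory.{w} 𝒜]

namespace SecStr

theorem isIso_homology_transition (K : ℕ → DerivedCategory 𝒜) (t : ∀ n, K (n + 1) ⟶ K n) (q : ℤ)
    (n' : ℕ) (h : ∀ n, n' ≤ n → IsIso ((homologyFunctor 𝒜 q).map (t n))) (k : ℕ) :
    IsIso ((homologyFunctor 𝒜 q).map (CohCx.transition K t n' k)) := by
  induction k with
  | zero =>
    change IsIso ((homologyFunctor 𝒜 q).map (𝟙 (K n')))
    rw [CategoryTheory.Functor.map_id]
    infer_instance
  | succ k ih =>
    change IsIso ((homologyFunctor 𝒜 q).map (t (n' + k) ≫ CohCx.transition K t n' k))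
    rw [Functor.map_comp]
    haveI := h (n' + k) (Nat.le_add_right _ _)
    infer_instance

omit [HasDerivedCategory.{w} 𝒜] in
/-- A morphism is a monomorphism if it is injective on sections over all objects. -/
theorem mono_of_sc_injective {F G : 𝒜} (φ : F ⟶ G)
    (h : ∀ U : C, Function.Injective (S.sc φ U)) : Mono φ := by
  have h1 : Mono (S.T.map φ) := by
    have h2 : Mono (S.T.map φ).hom := by
      haveI : ∀ X : Cᵒᵖ, Mono ((S.T.map φ).hom.app X) := fun X =>
        (AddCommGrpCat.mono_iff_injective _).2 (h X.unop)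
      exact NatTrans.mono_of_mono_app (S.T.map φ).hom
    exact Sheaf.Hom.mono_of_presheaf_mono J _ (S.T.map φ)
  exact S.T.mono_of_mono_map h1

variable [IsGrothendieckAbelian.{u} 𝒜] [HasExt.{w'} 𝒜]

/-- The local statement at an object `V` of the covering class: for `n'` large (depending on `V`)
`H^j(L) ⟶ H^j(K_{n'})` is injective on sections over `V` and sections over `V` lift locally. -/
theorem local_const (PA : ObjectProperty 𝒜) [WSerre.IsWeakSerre PA]
    (K : ℕ → DerivedCategory 𝒜) (t : ∀ n, K (n + 1) ⟶ K n) [HasProduct K]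
    (hK : ∀ n, WSerre.cohInPlus PA (K n))
    (L : DerivedCategory 𝒜) (a : ∀ n, L ⟶ K n) (hL : CohCx.IsRlimVia K t L a) (j : ℤ)
    (V : C) (d : ℕ)
    (hV : ∀ T ∈ J V, ∃ (ι : Type u) (Y : ι → C) (g : ∀ i, Y i ⟶ V),
      (∀ i, T.arrows (g i)) ∧ Sieve.ofArrows Y g ∈ J V ∧
      ∀ (i : ι) (F : 𝒜), PA F → ∀ k : ℕ, d < k →
        Subsingleton (Abelian.Ext.{w'} (S.P (Y i)) F k))
    (n' : ℕ)
    (hn' : ∀ m, n' ≤ m → ∀ q : ℤ, j - 1 - d ≤ q → q ≤ j + 1 →
      IsIso ((homologyFunctor 𝒜 q).map (t m))) :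
    Function.Injective (S.sc ((homologyFunctor 𝒜 j).map (a n')) V) ∧
      ∀ s : S.Γ ((homologyFunctor 𝒜 j).obj (K n')) V, ∃ R ∈ J V, ∀ (W : C) (i : W ⟶ V), R i →
        ∃ r : S.Γ ((homologyFunctor 𝒜 j).obj L) W,
          S.sc ((homologyFunctor 𝒜 j).map (a n')) W r = S.rs _ i s := by
  -- consequences of the vanishing of `Hom(P[0], cone[m])`
  have hstep : ∀ (W : C), (∀ F : 𝒜, PA F → ∀ k : ℕ, d < k →
        Subsingleton (Abelian.Ext.{w'} (S.P W) F k)) → ∀ m, n' ≤ m →
      (Function.Injective (Preadditive.rightComp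
        ((DerivedCategory.singleFunctor 𝒜 0).obj (S.P W))
        ((CategoryTheory.shiftFunctor _ j).map (t m))) ∧
      Function.Surjective (Preadditive.rightComp
        ((DerivedCategory.singleFunctor 𝒜 0).obj (S.P W))
        ((CategoryTheory.shiftFunctor _ (j - 1)).map (t m)))) ∧
      Function.Surjective (fun y : (DerivedCategory.singleFunctor 𝒜 0).obj (S.P W) ⟶ (K (m + 1))⟦j⟧ =>
        y ≫ (t m)⟦j⟧') := by
    intro W hW m hm
    obtain ⟨Z, u', v', hT⟩ := Pretriangulated.distinguished_cocone_triangle (t m)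
    have s1 := subsingleton_hom_cone (S.P W) d PA hW _ hT (hK (m + 1)) (hK m) (j - 1)
      (fun q hq1 hq2 => hn' m hm q (by omega) (by omega))
    have s2 := subsingleton_hom_cone (S.P W) d PA hW _ hT (hK (m + 1)) (hK m) j
      (fun q hq1 hq2 => hn' m hm q (by omega) (by omega))
    exact ⟨hom_inj_surj _ hT _ j s1, hom_surjective_mor₁ _ hT _ j s2⟩
  constructor
  · refine S.sections_injective K t L a hL V j n' (fun T hT => ?_)
    obtain ⟨ι, Y, g, hg, hcov, hY⟩ := hV T hT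
    refine ⟨ι, Y, g, hg, hcov, fun i => ⟨?_, ?_⟩⟩
    · exact limOneIsZero_of_eventually_surjective n' _ _
        (fun m hm => (hstep (Y i) (hY i) m hm).1.2)
    · exact transition_injective _ _ _ j n' (fun m hm => (hstep (Y i) (hY i) m hm).1.1)
  · intro s
    obtain ⟨M, N, hM, hN, eL, eN, f, θL, θN, hf, sq⟩ := exists_models (a n') j
    have := hM
    have := hN
    have hls : Sheaf.IsLocallySurjective (S.T.map (N.homologyπ j)) :=
      S.isLocallySurjective_of_epi _
    obtain ⟨ι, Y, g, hg, hcov, hY⟩ := hV _ (hls.imageSieve_mem (S.sc θN.hom V s))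
    -- a lift over each member of the family
    have hlift : ∀ i : ι, ∃ r : S.Γ ((homologyFunctor 𝒜 j).obj L) (Y i),
        S.sc ((homologyFunctor 𝒜 j).map (a n')) (Y i) r = S.rs _ (g i) s := by
      intro i
      obtain ⟨ζ', hζ'⟩ : ∃ ζ' : S.Γ (N.cycles j) (Y i),
          S.sc (N.homologyπ j) (Y i) ζ' = S.rs _ (g i) (S.sc θN.hom V s) := hg i
      have hc : (S.ofS (Y i) _ ζ' ≫ N.iCycles j) ≫ N.d j (j + 1) = 0 := by
        rw [Category.assoc, N.iCycles_d, comp_zero]
      obtain ⟨c, hc'⟩ : ∃ c : (DerivedCategory.singleFunctor 𝒜 0).obj (S.P (Y i)) ⟶ (Q.obj N)⟦j⟧,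
          c = cls (S.P (Y i)) N j (S.ofS (Y i) _ ζ' ≫ N.iCycles j) hc := ⟨_, rfl⟩
      obtain ⟨x, hx0, hx⟩ := exists_compatible_family n'
        (fun m => (DerivedCategory.singleFunctor 𝒜 0).obj (S.P (Y i)) ⟶ (K m)⟦j⟧)
        (fun m y => y ≫ (t m)⟦j⟧') (fun m hm => (hstep (Y i) (hY i) m hm).2)
        (c ≫ (eN.hom)⟦j⟧')
      obtain ⟨y, hy⟩ := (Groth.Agent.S0943.rlim_hom_lifts K t L a hL
        ((DerivedCategory.singleFunctor 𝒜 0).obj (S.P (Y i))) j).1 x hx
      have hfe : eL.inv ≫ Q.map f = a n' ≫ eN.inv := by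
        rw [hf, Iso.inv_hom_id_assoc]
      have e2 : (eN.hom)⟦j⟧' ≫ (eN.inv)⟦j⟧' = 𝟙 _ := by
        rw [← Functor.map_comp, Iso.hom_inv_id, CategoryTheory.Functor.map_id]
      have e3 : y ≫ (a n')⟦j⟧' = c ≫ (eN.hom)⟦j⟧' := (hy n').trans hx0
      have hy'' : (y ≫ (eL.inv)⟦j⟧') ≫ (Q.map f)⟦j⟧' = c := by
        calc (y ≫ (eL.inv)⟦j⟧') ≫ (Q.map f)⟦j⟧'
            = y ≫ (eL.inv ≫ Q.map f)⟦j⟧' := by rw [Category.assoc, ← Functor.map_comp]
          _ = (y ≫ (a n')⟦j⟧') ≫ (eN.inv)⟦j⟧' := by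
              rw [hfe, Functor.map_comp, Category.assoc]
          _ = c := by
              rw [e3, Category.assoc, e2, Category.comp_id]
      have hy' : (y ≫ (eL.inv)⟦j⟧') ≫ (Q.map f)⟦j⟧' =
          cls (S.P (Y i)) N j (S.ofS (Y i) _ ζ' ≫ N.iCycles j) hc := hy''.trans hc'
      obtain ⟨τ, hτ⟩ := exists_homology_lift (S.P (Y i)) M N f j (S.ofS (Y i) _ ζ')
        (y ≫ (eL.inv)⟦j⟧') hy'
      refine ⟨S.sc θL.inv (Y i) (S.ev (Y i) _ τ), ?_⟩
      apply S.sc_injective_of_mono θN.hom (Y i)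
      have e1 : θL.inv ≫ (homologyFunctor 𝒜 j).map (a n') ≫ θN.hom =
          HomologicalComplex.homologyMap f j := by
        rw [← sq, Iso.inv_hom_id_assoc]
      rw [← sc_comp, ← sc_comp, e1, ← ev_comp, hτ, ev_comp, ev_ofS, hζ', sc_map]
    choose r hr using hlift
    refine ⟨Sieve.ofArrows Y g, hcov, ?_⟩
    intro W k hk
    obtain ⟨i, k', rfl⟩ := (Sieve.mem_ofArrows_iff Y g k).1 hk
    refine ⟨S.rs _ k' (r i), ?_⟩
    rw [sc_map, hr i]
    change _ = ((S.T.obj _).obj.map (k' ≫ g i).op).hom s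
    rw [op_comp, Functor.map_comp]
    rfl

/-- **Eventually constant systems**: if `(K_n)` is an inverse system in `D^+_{PA}` whose cohomology
objects are eventually constant, then `H^j(R lim K_n) ⟶ H^j(K_n)` is an isomorphism for `n` large,
provided the site has a covering class of objects of locally bounded `Ext`-dimension on `PA`. -/
theorem isIso_homology_of_eventually_constant (PA : ObjectProperty 𝒜) [WSerre.IsWeakSerre PA]
    (B : Set C)
    (hB : ∀ U : C, ∃ (ι : Type u) (Y : ι → C) (g : ∀ i, Y i ⟶ U),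
      Sieve.ofArrows Y g ∈ J U ∧ ∀ i, Y i ∈ B)
    (hA : ∀ V ∈ B, ∃ d : ℕ, ∀ T ∈ J V, ∃ (ι : Type u) (Y : ι → C) (g : ∀ i, Y i ⟶ V),
      (∀ i, T.arrows (g i)) ∧ Sieve.ofArrows Y g ∈ J V ∧
      ∀ (i : ι) (F : 𝒜), PA F → ∀ k : ℕ, d < k →
        Subsingleton (Abelian.Ext.{w'} (S.P (Y i)) F k))
    (K : ℕ → DerivedCategory 𝒜) (t : ∀ n, K (n + 1) ⟶ K n) [HasProduct K]
    (hK : ∀ n, WSerre.cohInPlus PA (K n))
    (hconst : ∀ j : ℤ, ∃ n₀ : ℕ, ∀ n, n₀ ≤ n → IsIso ((homologyFunctor 𝒜 j).map (t n)))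
    (L : DerivedCategory 𝒜) (a : ∀ n, L ⟶ K n) (hL : CohCx.IsRlimVia K t L a) (j : ℤ) :
    ∃ n₀ : ℕ, ∀ n, n₀ ≤ n → IsIso ((homologyFunctor 𝒜 j).map (a n)) := by
  choose n₀ hn₀ using hconst
  refine ⟨n₀ j, fun n hn => ?_⟩
  -- the local statement at a large index depending on `V ∈ B`
  have key : ∀ V ∈ B, ∃ k : ℕ,
      Function.Injective (S.sc ((homologyFunctor 𝒜 j).map (a (n + k))) V) ∧
      ∀ s : S.Γ ((homologyFunctor 𝒜 j).obj (K (n + k))) V, ∃ R ∈ J V,
        ∀ (W : C) (i : W ⟶ V), R i → ∃ r : S.Γ ((homologyFunctor 𝒜 j).obj L) W,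
          S.sc ((homologyFunctor 𝒜 j).map (a (n + k))) W r = S.rs _ i s := by
    intro V hV
    obtain ⟨d, hd⟩ := hA V hV
    refine ⟨(Finset.Icc (j - 1 - d) (j + 1)).sup n₀, ?_⟩
    refine S.local_const PA K t hK L a hL j V d hd _ (fun m hm q hq1 hq2 => hn₀ q m ?_)
    have h1 : n₀ q ≤ (Finset.Icc (j - 1 - d) (j + 1)).sup n₀ :=
      Finset.le_sup (f := n₀) (Finset.mem_Icc.2 ⟨hq1, hq2⟩)
    omega
  -- the comparison `H^j(a n) = H^j(a (n + k)) ≫ iso`
  have hfac : ∀ k : ℕ, (homologyFunctor 𝒜 j).map (a (n + k)) ≫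
      (homologyFunctor 𝒜 j).map (CohCx.transition K t n k) = (homologyFunctor 𝒜 j).map (a n) :=
    fun k => by rw [← Functor.map_comp, isRlimVia_transition K t L a hL n k]
  have hiso : ∀ k : ℕ, IsIso ((homologyFunctor 𝒜 j).map (CohCx.transition K t n k)) :=
    fun k => isIso_homology_transition K t j n (fun m hm => hn₀ j m (by omega)) k
  have hmono : Mono ((homologyFunctor 𝒜 j).map (a n)) := by
    apply S.mono_of_sc_injective
    intro U
    refine (injective_iff_map_eq_zero (S.sc ((homologyFunctor 𝒜 j).map (a n)) U)).2 ?_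
    intro γ hγ
    obtain ⟨ι, Y, g, hcov, hYB⟩ := hB U
    refine S.isSeparated _ U _ hcov γ 0 (fun W i hi => ?_)
    obtain ⟨i', k', rfl⟩ := (Sieve.mem_ofArrows_iff Y g i).1 hi
    obtain ⟨k, hinj, -⟩ := key (Y i') (hYB i')
    haveI := hiso k
    have h0 : S.rs _ (g i') γ = 0 := by
      apply hinj
      apply S.sc_injective_of_mono ((homologyFunctor 𝒜 j).map (CohCx.transition K t n k)) (Y i')
      rw [← sc_comp, hfac k, sc_map, hγ, map_zero, map_zero, map_zero]
    change ((S.T.obj _).obj.map (k' ≫ g i').op).hom γ = ((S.T.obj _).obj.map (k' ≫ g i').op).hom 0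
    rw [op_comp, Functor.map_comp, map_zero]
    change S.rs _ k' (S.rs _ (g i') γ) = 0
    rw [h0, map_zero]
  have hepi : Epi ((homologyFunctor 𝒜 j).map (a n)) := by
    apply S.epi_of_isLocallySurjective
    constructor
    intro U s
    obtain ⟨ι, Y, g, hcov, hYB⟩ := hB U
    refine J.transitive hcov _ (fun W i hi => ?_)
    obtain ⟨i', k', rfl⟩ := (Sieve.mem_ofArrows_iff Y g i).1 hi
    obtain ⟨k, -, hsurj⟩ := key (Y i') (hYB i')
    haveI := hiso k
    obtain ⟨R, hR, hR'⟩ := hsurj (S.sc (inv ((homologyFunctor 𝒜 j).map (CohCx.transition K t n k)))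
      (Y i') (S.rs _ (g i') s))
    rw [Sieve.pullback_comp]
    apply J.pullback_stable k'
    refine J.superset_covering ?_ hR
    intro W' l hl
    obtain ⟨r, hr⟩ := hR' W' l hl
    refine ⟨r, ?_⟩
    change S.sc ((homologyFunctor 𝒜 j).map (a n)) W' r =
      ((S.T.obj _).obj.map (l ≫ g i').op).hom s
    rw [← hfac k, sc_comp, hr, ← sc_map, ← sc_comp, IsIso.inv_hom_id, sc_id, op_comp,
      Functor.map_comp]
    rfl
  exact isIso_of_mono_of_epi _

end SecStr

end Site

end Groth.Agent.H5.RlimMod
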