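import Groth.Agent.H5.SiteEq.Local
import Groth.Agent.H5.SiteEq.Affine
import Groth.Agent.H33.Leray
import Groth.Prelude.Def_DCoh2
import Mathlib.Algebra.Homology.DerivedCategory.SingleTriangle
import Mathlib.Algebra.Homology.DerivedCategory.FullyFaithful

/-!
# The derived limit of an inverse system of acyclic objects with surjective transition maps (helper5)

`𝒜` an abelian category of sheaf type (`SecStr`) over a site, `(F n, t n : F (n+1) ⟶ F n)` an inverse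
system in `𝒜` such that, for every `V` in a covering class `B` of objects, `Ext^k(P_V, F n) = 0` for
`k > 0` and `Hom(P_V, F (n+1)) ⟶ Hom(P_V, F n)` is surjective for `n ≥ 1`.  Then `lim F n`, placed
in degree `0`, is a derived limit of the system `(F n)[0]`, and `Ext^k(P_V, lim F n) = 0` for `k > 0`
and `V ∈ B`.
-/

set_option autoImplicit false
universe w w' u

namespace Groth.Agent.H5.RlimMod

open CategoryTheory Limits Opposite DerivedCategory Pretriangulated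
open Groth.Agent.H5.SiteEq

section Shift

variable {D : Type*} [Category D] [HasShift D ℤ]

/-- `Hom(A, (∏ K)⟦p⟧)` vanishes if all `Hom(A, (K n)⟦p⟧)` do. -/
theorem subsingleton_hom_shift_pi {ι : Type*} (A : D) (K : ι → D) [HasProduct K] (p : ℤ)
    (h : ∀ n, Subsingleton (A ⟶ (K n)⟦p⟧)) : Subsingleton (A ⟶ (∏ᶜ K)⟦p⟧) := by
  have hl : IsLimit (Fan.mk ((∏ᶜ K)⟦p⟧) (fun n => (Pi.π K n)⟦p⟧')) :=
    isLimitFanMkObjOfIsLimit (shiftFunctor D p) K _ (productIsProduct K)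
  exact ⟨fun x y => Fan.IsLimit.hom_ext hl _ _ (fun n => (h n).elim _ _)⟩

end Shift

section Heart

variable {𝒜 : Type*} [Category 𝒜] [Abelian 𝒜] [HasDerivedCategory.{w} 𝒜]

/-- A product of objects which are `≥ 0` is `≥ 0`. -/
theorem isGE_pi {ι : Type*} (K : ι → DerivedCategory 𝒜) [HasProduct K] (n : ℤ)
    (h : ∀ i, (K i).IsGE n) : (∏ᶜ K).IsGE n := by
  change TStructure.t.IsGE (∏ᶜ K) n
  rw [TStructure.t.isGE_iff_orthogonal (n - 1) n (by omega)]
  intro Z g hZ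
  apply Pi.hom_ext
  intro i
  haveI : TStructure.t.IsGE (K i) n := h i
  rw [zero_comp]
  exact TStructure.t.zero _ (n - 1) n (by omega)

end Heart

section Main

open Abelian

variable {C : Type u} [SmallCategory C] {J : GrothendieckTopology C}
  {𝒜 : Type (u + 1)} [Category.{u} 𝒜] [Abelian 𝒜] [IsGrothendieckAbelian.{u} 𝒜] (S : SecStr J 𝒜)
  [HasDerivedCategory.{w} 𝒜] [HasExt.{w'} 𝒜]

set_option maxHeartbeats 1000000 in
theorem isRlim_limit_and_ext_vanishing (F : ℕ → 𝒜) (t : ∀ n, F (n + 1) ⟶ F n) (B : Set C)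
    (hB : ∀ U : C, ∃ (ι : Type u) (Y : ι → C) (g : ∀ i, Y i ⟶ U),
      Sieve.ofArrows Y g ∈ J U ∧ ∀ i, Y i ∈ B)
    (h1 : ∀ V ∈ B, ∀ (n k : ℕ), 0 < k → Subsingleton (Ext.{w'} (S.P V) (F n) k))
    (h2 : ∀ V ∈ B, ∀ n : ℕ, 1 ≤ n → ∀ a : S.P V ⟶ F n, ∃ b : S.P V ⟶ F (n + 1), b ≫ t n = a)
    [HasProduct fun n => (singleFunctor 𝒜 0).obj (F n)] :
    DCoh.IsRlim (fun n => (singleFunctor 𝒜 0).obj (F n))
      (fun n => (singleFunctor 𝒜 0).map (t n))
      ((singleFunctor 𝒜 0).obj (limit (Functor.ofOpSequence t))) ∧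
    ∀ V ∈ B, ∀ k : ℕ, 0 < k →
      Subsingleton (Ext.{w'} (S.P V) (limit (Functor.ofOpSequence t)) k) := by
  let sF := singleFunctor 𝒜 0
  let K : ℕ → DerivedCategory 𝒜 := fun n => sF.obj (F n)
  let τ : ∀ n, K (n + 1) ⟶ K n := fun n => sF.map (t n)
  let φ : ∏ᶜ K ⟶ ∏ᶜ K := Pi.lift fun n => Pi.π K n - Pi.π K (n + 1) ≫ τ n
  haveI hGE : (∏ᶜ K).IsGE 0 := isGE_pi K 0 (fun n => inferInstanceAs ((sF.obj (F n)).IsGE 0))
  have hvanK : ∀ V ∈ B, ∀ (n : ℕ) (p : ℤ), 0 < p →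
      Subsingleton (sF.obj (S.P V) ⟶ (K n)⟦p⟧) :=
    fun V hV n p hp => subsingleton_hom_single_shift_pos (S.P V) (F n) p hp
      (fun k hk => h1 V hV n k hk)
  have hvan : ∀ V ∈ B, ∀ p : ℤ, 0 < p → Subsingleton (sF.obj (S.P V) ⟶ (∏ᶜ K)⟦p⟧) :=
    fun V hV p hp => subsingleton_hom_shift_pi _ K p (fun n => hvanK V hV n p hp)
  haveI hLE : (∏ᶜ K).IsLE 0 := (isLE_iff _ 0).2 (fun p hp =>
    S.isZero_homology_of_local_vanishing _ p B hB (fun V hV => hvan V hV p hp))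
  obtain ⟨G, ⟨e⟩⟩ := exists_iso_singleFunctor_obj_of_isGE_of_isLE (∏ᶜ K) 0
  obtain ⟨ψ, hψ⟩ := sF.map_surjective (e.inv ≫ φ ≫ e.hom)
  have hρ' : ∀ n, ∃ ρ : G ⟶ F n, sF.map ρ = e.inv ≫ Pi.π K n := fun n => sF.map_surjective _
  choose ρ hρ using hρ'
  have hψρ : ∀ n, ψ ≫ ρ n = ρ n - ρ (n + 1) ≫ t n := by
    intro n
    apply sF.map_injective
    rw [sF.map_comp, hψ, hρ, sF.map_sub, sF.map_comp, hρ, hρ]
    simp only [Category.assoc, Iso.hom_inv_id_assoc, φ, Pi.lift_π, Preadditive.comp_sub]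
    rfl
  have hUP : ∀ {T : 𝒜} (b : ∀ n, T ⟶ F n), ∃ b' : T ⟶ G, ∀ n, b' ≫ ρ n = b n := by
    intro T b
    obtain ⟨b', hb'⟩ := sF.map_surjective (Pi.lift (fun n => sF.map (b n)) ≫ e.hom)
    refine ⟨b', fun n => sF.map_injective ?_⟩
    rw [sF.map_comp, hb', hρ, Category.assoc, Iso.hom_inv_id_assoc]
    exact Pi.lift_π _ n
  have hext : ∀ {T : 𝒜} (x y : T ⟶ G), (∀ n, x ≫ ρ n = y ≫ ρ n) → x = y := by
    intro T x y h
    apply sF.map_injective
    rw [← cancel_mono e.inv]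
    apply Pi.hom_ext
    intro n
    rw [Category.assoc, Category.assoc, ← hρ, ← sF.map_comp, ← sF.map_comp, h n]
  -- lifting sections along `ψ` on `B`
  have hlift : ∀ V ∈ B, ∀ a : S.P V ⟶ G, ∃ b : S.P V ⟶ G, b ≫ ψ = a := by
    intro V hV a
    let c : ∀ n : ℕ, S.P V ⟶ F (n + 1) := fun n =>
      Nat.rec (motive := fun n => S.P V ⟶ F (n + 1)) 0
        (fun n cn => Classical.choose (h2 V hV (n + 1) (by omega) (cn - a ≫ ρ (n + 1)))) n
    have hc : ∀ n, c (n + 1) ≫ t (n + 1) = c n - a ≫ ρ (n + 1) := fun n =>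
      Classical.choose_spec (h2 V hV (n + 1) (by omega) (c n - a ≫ ρ (n + 1)))
    let b : ∀ n : ℕ, S.P V ⟶ F n := fun n =>
      Nat.casesOn (motive := fun n => S.P V ⟶ F n) n (a ≫ ρ 0 + c 0 ≫ t 0) (fun m => c m)
    have hb : ∀ n, b n - b (n + 1) ≫ t n = a ≫ ρ n := by
      intro n
      cases n with
      | zero => change (a ≫ ρ 0 + c 0 ≫ t 0) - c 0 ≫ t 0 = _; abel
      | succ m => change c m - c (m + 1) ≫ t (m + 1) = _; rw [hc m]; abel
    obtain ⟨b', hb'⟩ := hUP b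
    refine ⟨b', hext _ _ (fun n => ?_)⟩
    rw [Category.assoc, hψρ, Preadditive.comp_sub, ← Category.assoc, hb', hb', hb]
  haveI hepi : Epi ψ := by
    refine S.epi_of_isLocallySurjective _ ⟨fun {U} s => ?_⟩
    obtain ⟨ι, Z, g, hcov, hZB⟩ := hB U
    refine J.superset_covering ?_ hcov
    rw [Sieve.ofArrows, Sieve.generate_le_iff]
    intro W f hf
    obtain ⟨i⟩ := hf
    obtain ⟨b, hb⟩ := hlift (Z i) (hZB i) (S.ofS (Z i) _ (S.rs _ (g i) s))
    refine ⟨S.ev (Z i) _ b, ?_⟩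
    exact ((S.ev_comp (Z i) b ψ).symm.trans (congrArg (S.ev (Z i) G) hb)).trans
      (S.ev_ofS (Z i) _ _)
  let Sψ : ShortComplex 𝒜 := ShortComplex.mk (kernel.ι ψ) ψ (kernel.condition ψ)
  have hSψ : Sψ.ShortExact :=
    { exact := ShortComplex.exact_kernel ψ
      mono_f := inferInstanceAs (Mono (kernel.ι ψ))
      epi_g := hepi }
  have hdist := hSψ.singleTriangle_distinguished
  -- the kernel of `ψ` is the limit
  have hcomp : ∀ n, (kernel.ι ψ ≫ ρ (n + 1)) ≫ t n = kernel.ι ψ ≫ ρ n := by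
    intro n
    have h : kernel.ι ψ ≫ ψ ≫ ρ n = kernel.ι ψ ≫ (ρ n - ρ (n + 1) ≫ t n) :=
      congrArg (fun x => kernel.ι ψ ≫ x) (hψρ n)
    rw [kernel.condition_assoc, zero_comp, Preadditive.comp_sub] at h
    rw [Category.assoc]
    exact (sub_eq_zero.1 h.symm).symm
  let cZ : Cone (Functor.ofOpSequence t) :=
    { pt := kernel ψ
      π := NatTrans.ofOpSequence (F := (Functor.const ℕᵒᵖ).obj (kernel ψ))
        (fun n => kernel.ι ψ ≫ ρ n) (fun n => by
          dsimp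
          rw [Category.id_comp, Functor.ofOpSequence_map_homOfLE_succ]
          exact (hcomp n).symm) }
  have hs0 : ∀ (s : Cone (Functor.ofOpSequence t)) (b' : s.pt ⟶ G),
      (∀ n, b' ≫ ρ n = s.π.app (op n)) → b' ≫ ψ = 0 := by
    intro s b' hb'
    apply hext
    intro n
    rw [Category.assoc, hψρ, Preadditive.comp_sub, ← Category.assoc, hb', hb', zero_comp]
    have := s.w (homOfLE (Nat.le_add_right n 1)).op
    rw [Functor.ofOpSequence_map_homOfLE_succ] at this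
    exact sub_eq_zero.2 this.symm
  have hcZ : IsLimit cZ :=
    { lift := fun s => kernel.lift ψ (Classical.choose (hUP (fun n => s.π.app (op n))))
        (hs0 s _ (Classical.choose_spec (hUP (fun n => s.π.app (op n)))))
      fac := fun s j => by
        obtain ⟨n⟩ := j
        change kernel.lift ψ _ _ ≫ kernel.ι ψ ≫ ρ n = _
        rw [kernel.lift_ι_assoc]
        exact Classical.choose_spec (hUP (fun n => s.π.app (op n))) n
      uniq := fun s m hm => by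
        rw [← cancel_mono (kernel.ι ψ), kernel.lift_ι]
        apply hext
        intro n
        rw [Classical.choose_spec (hUP (fun n => s.π.app (op n))) n, Category.assoc]
        exact hm (op n) }
  let eZ : kernel ψ ≅ limit (Functor.ofOpSequence t) :=
    hcZ.conePointUniqueUpToIso (limit.isLimit _)
  refine ⟨⟨sF.map eZ.inv ≫ sF.map (kernel.ι ψ) ≫ e.inv,
    e.hom ≫ hSψ.singleδ ≫ (sF.map eZ.hom)⟦(1 : ℤ)⟧', ?_⟩, ?_⟩
  · refine isomorphic_distinguished _ hdist _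
      (Triangle.isoMk _ _ (sF.mapIso eZ.symm) e e ?_ ?_ ?_)
    · change (sF.map eZ.inv ≫ sF.map (kernel.ι ψ) ≫ e.inv) ≫ e.hom =
        sF.map eZ.inv ≫ sF.map (kernel.ι ψ)
      rw [Category.assoc, Category.assoc, Iso.inv_hom_id, Category.comp_id]
    · change φ ≫ e.hom = e.hom ≫ sF.map ψ
      rw [hψ, Iso.hom_inv_id_assoc]
    · change (e.hom ≫ hSψ.singleδ ≫ (sF.map eZ.hom)⟦(1 : ℤ)⟧') ≫ (sF.map eZ.inv)⟦(1 : ℤ)⟧' =
        e.hom ≫ hSψ.singleδ
      rw [Category.assoc, Category.assoc, ← Functor.map_comp, ← Functor.map_comp, Iso.hom_inv_id,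
        CategoryTheory.Functor.map_id, CategoryTheory.Functor.map_id, Category.comp_id]
  · intro V hV k hk
    have hG : ∀ j : ℕ, 0 < j → Subsingleton (Ext.{w'} (S.P V) G j) := by
      intro j hj
      have h0 : Subsingleton (sF.obj (S.P V) ⟶ (sF.obj G)⟦(j : ℤ)⟧) := ⟨fun x y => by
        have := (hvan V hV j (by exact_mod_cast hj)).elim
          (x ≫ e.inv⟦(j : ℤ)⟧') (y ≫ e.inv⟦(j : ℤ)⟧')
        exact (cancel_mono _).1 this⟩
      exact (Abelian.Ext.homEquiv (X := S.P V) (Y := G) (n := j)).subsingleton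
    have hZ0 : ∀ x : Ext.{w'} (S.P V) (kernel ψ) k, x = 0 := by
      intro x
      obtain ⟨k', rfl⟩ : ∃ k' : ℕ, k = k' + 1 := ⟨k - 1, by omega⟩
      have h0 : x.comp (Ext.mk₀ Sψ.f) (add_zero (k' + 1)) = 0 :=
        (hG (k' + 1) (by omega)).elim _ _
      obtain ⟨x₃, hx₃⟩ := Ext.covariant_sequence_exact₁ _ hSψ x h0 rfl
      rcases Nat.eq_zero_or_pos k' with hk' | hk'
      · subst hk'
        obtain ⟨y, rfl⟩ := (Ext.mk₀_bijective _ _).2 x₃
        obtain ⟨b, hb⟩ := hlift V hV y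
        rw [← hx₃, ← hb]
        change ((Ext.mk₀ (b ≫ Sψ.g)).comp hSψ.extClass _) = 0
        rw [← Ext.mk₀_comp_mk₀, Ext.comp_assoc_of_second_deg_zero, hSψ.comp_extClass,
          Ext.comp_zero]
      · have : x₃ = 0 := (hG k' hk').elim _ _
        rw [← hx₃, this, Ext.zero_comp]
    refine ⟨fun x y => ?_⟩
    have hx : ∀ z : Ext.{w'} (S.P V) (limit (Functor.ofOpSequence t)) k, z = 0 := by
      intro z
      have h1 : z = (z.comp (Ext.mk₀ eZ.inv) (add_zero k)).comp (Ext.mk₀ eZ.hom) (add_zero k) := by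
        rw [Ext.comp_assoc_of_third_deg_zero, Ext.mk₀_comp_mk₀, Iso.inv_hom_id, Ext.comp_mk₀_id]
      rw [h1, hZ0 (z.comp (Ext.mk₀ eZ.inv) (add_zero k)), Ext.zero_comp]
    rw [hx x, hx y]

end Main

end Groth.Agent.H5.RlimMod
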