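import Groth.Agent.H5.RlimMod.Trunc
import Groth.Agent.H53.FreeOn
import Groth.Agent.H45.ToSheafColim

/-!
# Sheaves of modules on a ringed site form an abelian category of sheaf type (helper5)
-/

set_option autoImplicit false
universe w' w u

namespace Groth.Agent.H5.RlimMod

open CategoryTheory Limits Opposite
open Groth.Agent.H5.HDULib

variable {C : Type u} [SmallCategory C] {J : GrothendieckTopology C}
  (O : Sheaf J CommRingCat.{u})

/-- The `SecStr` of sheaves of `O`-modules. -/
noncomputable def modSec : SecStr J (ModSite.Mod O) where
  T := SheafOfModules.toSheaf (ModSite.ringSh O)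
  additive := inferInstance
  lim := inferInstance
  colim := Groth.Agent.H45.toSheaf_preservesFiniteColimits (ModSite.ringSh O)
  faithful := inferInstance
  P U := ModSite.freeOn O U
  eqv U F := Groth.Agent.H53.freeOnHomEquiv O U F
  eqv_comp U _ _ a φ := Groth.Agent.H53.freeOnHomEquiv_comp O U a φ

end Groth.Agent.H5.RlimMod
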