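import Groth.Agent.H33.RlimSite

/-!
# Abelian categories "of sheaf type" over a site (helper5)

`SecStr J 𝒜`: an abelian category `𝒜` with a faithful exact functor `T` to abelian sheaves on the
small site `(C, J)` and objects `P U` ("free on `U`") corepresenting sections over `U`.  Examples:
abelian sheaves themselves, sheaves of modules over a sheaf of rings (`T = toAb`, `P U = freeOn`).
We port the local analysis of cohomology sheaves of complexes (from `H5/HDU`, `H33/RlimSite`) to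
this setting.
-/

set_option autoImplicit false
universe w u

namespace Groth.Agent.H5.RlimMod

open CategoryTheory Limits Opposite
open Groth.Agent.H5.HDULib

variable {C : Type u} [SmallCategory C]

/-- An abelian category of sheaf type over the site `(C, J)`. -/
structure SecStr (J : GrothendieckTopology C) (𝒜 : Type (u + 1)) [Category.{u} 𝒜] [Abelian 𝒜] where
  T : 𝒜 ⥤ Sheaf J AddCommGrpCat.{u}
  additive : T.Additive
  lim : PreservesFiniteLimits T
  colim : PreservesFiniteColimits T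
  faithful : T.Faithful
  P : C → 𝒜
  eqv : ∀ (U : C) (F : 𝒜), (P U ⟶ F) ≃ (T.obj F).obj.obj (op U)
  eqv_comp : ∀ (U : C) {F G : 𝒜} (a : P U ⟶ F) (φ : F ⟶ G),
    eqv U G (a ≫ φ) = sec J (T.map φ) U (eqv U F a)

variable {J : GrothendieckTopology C} {𝒜 : Type (u + 1)} [Category.{u} 𝒜] [Abelian 𝒜]
  (S : SecStr J 𝒜)

namespace SecStr

instance : S.T.Additive := S.additive
instance : PreservesFiniteLimits S.T := S.lim
instance : PreservesFiniteColimits S.T := S.colim
instance : S.T.Faithful := S.faithful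

/-- Sections of `F` over `U`. -/
abbrev Γ (F : 𝒜) (U : C) : Type u := (S.T.obj F).obj.obj (op U)

/-- The map on sections induced by a morphism. -/
abbrev sc {F G : 𝒜} (φ : F ⟶ G) (U : C) : S.Γ F U →+ S.Γ G U := sec J (S.T.map φ) U

/-- Restriction of sections. -/
abbrev rs (F : 𝒜) {U V : C} (i : V ⟶ U) : S.Γ F U →+ S.Γ F V := ((S.T.obj F).obj.map i.op).hom

theorem sc_comp {F G H : 𝒜} (φ : F ⟶ G) (ψ : G ⟶ H) (U : C) (t : S.Γ F U) :
    S.sc (φ ≫ ψ) U t = S.sc ψ U (S.sc φ U t) := by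
  change sec J (S.T.map (φ ≫ ψ)) U t = _
  rw [Functor.map_comp]
  rfl

theorem sc_id (F : 𝒜) (U : C) (t : S.Γ F U) : S.sc (𝟙 F) U t = t := by
  change sec J (S.T.map (𝟙 F)) U t = _
  rw [CategoryTheory.Functor.map_id]
  rfl

theorem sc_zero {F G : 𝒜} (U : C) (t : S.Γ F U) : S.sc (0 : F ⟶ G) U t = 0 := by
  change sec J (S.T.map (0 : F ⟶ G)) U t = _
  rw [Functor.map_zero]
  rfl

theorem sc_map {F G : 𝒜} (φ : F ⟶ G) {U V : C} (i : V ⟶ U) (t : S.Γ F U) :
    S.sc φ V (S.rs F i t) = S.rs G i (S.sc φ U t) :=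
  sec_map J (S.T.map φ) i t

/-- The morphism `P U ⟶ F` attached to a section. -/
def ofS (U : C) (F : 𝒜) (z : S.Γ F U) : S.P U ⟶ F := (S.eqv U F).symm z

/-- The section attached to a morphism `P U ⟶ F`. -/
def ev (U : C) (F : 𝒜) (a : S.P U ⟶ F) : S.Γ F U := S.eqv U F a

@[simp] theorem ev_ofS (U : C) (F : 𝒜) (z : S.Γ F U) : S.ev U F (S.ofS U F z) = z :=
  (S.eqv U F).apply_symm_apply z

@[simp] theorem ofS_ev (U : C) (F : 𝒜) (a : S.P U ⟶ F) : S.ofS U F (S.ev U F a) = a :=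
  (S.eqv U F).symm_apply_apply a

theorem ev_comp (U : C) {F G : 𝒜} (a : S.P U ⟶ F) (φ : F ⟶ G) :
    S.ev U G (a ≫ φ) = S.sc φ U (S.ev U F a) := S.eqv_comp U a φ

theorem ofS_comp (U : C) {F G : 𝒜} (φ : F ⟶ G) (z : S.Γ F U) :
    S.ofS U G (S.sc φ U z) = S.ofS U F z ≫ φ := by
  apply (S.eqv U G).injective
  change S.ev U G _ = S.ev U G _
  rw [ev_ofS, ev_comp, ev_ofS]

theorem ev_zero (U : C) (F : 𝒜) : S.ev U F 0 = 0 := by
  have h := S.ev_comp U (0 : S.P U ⟶ F) (0 : F ⟶ F)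
  rw [comp_zero, sc_zero] at h
  exact h

theorem ofS_zero (U : C) (F : 𝒜) : S.ofS U F 0 = 0 := by
  apply (S.eqv U F).injective
  change S.ev U F _ = S.ev U F _
  rw [ev_ofS, ev_zero]

theorem sc_injective_of_mono {F G : 𝒜} (φ : F ⟶ G) [Mono φ] (U : C) :
    Function.Injective (S.sc φ U) :=
  sec_injective_of_mono J (S.T.map φ) U

/-- In an exact short complex, sections killed by `g` are locally in the image of `f`. -/
theorem locally_of_exact (X : ShortComplex 𝒜) (hX : X.Exact) (U : C) (t : S.Γ X.X₂ U)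
    (ht : S.sc X.g U t = 0) :
    ∃ R ∈ J U, ∀ (V : C) (i : V ⟶ U), R i →
      ∃ r : S.Γ X.X₁ V, S.sc X.f V r = S.rs X.X₂ i t :=
  Groth.Agent.H33.RlimSite.locally_of_exact J (X.map S.T) (hX.map S.T) U t ht

theorem isLocallySurjective_of_epi {F G : 𝒜} (π : F ⟶ G) [Epi π] :
    Sheaf.IsLocallySurjective (S.T.map π) :=
  (Sheaf.isLocallySurjective_iff_epi' _ (S.T.map π)).2 inferInstance

theorem epi_of_isLocallySurjective {F G : 𝒜} (π : F ⟶ G)
    (h : Sheaf.IsLocallySurjective (S.T.map π)) : Epi π := by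
  have : Epi (S.T.map π) := (Sheaf.isLocallySurjective_iff_epi' _ (S.T.map π)).1 h
  exact S.T.epi_of_epi_map this

theorem isSeparated (F : 𝒜) (U : C) (R : Sieve U) (hR : R ∈ J U) (s t : S.Γ F U)
    (h : ∀ (V : C) (i : V ⟶ U), R i → S.rs F i s = S.rs F i t) : s = t :=
  (S.T.obj F).isSeparated U R hR s t (fun V i hi => h V i hi)

end SecStr

end Groth.Agent.H5.RlimMod
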