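import Groth.Agent.H5.RlimMod.Core
import Groth.Agent.H33.RlimTrunc

/-!
# `E ≅ R lim τ_{≥ -n} E` in an abelian category of sheaf type (helper5)

Port of `H33/RlimTrunc` (site section) and of `S0881` to a `SecStr`.
-/

set_option autoImplicit false
universe w' w u

namespace Groth.Agent.H5.RlimMod

open CategoryTheory Limits Opposite DerivedCategory
open Groth.Agent.H5.HDULib Groth.Agent.H33.RlimSite Groth.Agent.H33.RlimTrunc

variable {C : Type u} [SmallCategory C] {J : GrothendieckTopology C}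
  {𝒜 : Type (u + 1)} [Category.{u} 𝒜] [Abelian 𝒜] (S : SecStr J 𝒜)
  [HasDerivedCategory.{w} 𝒜] (E : DerivedCategory 𝒜)

namespace SecStr

theorem toTruncTower_comp (n : ℕ) :
    CohCx.toTruncTower E (n + 1) ≫ CohCx.truncTowerMap E n = CohCx.toTruncTower E n :=
  TStructure.t.π_natTransTruncGEOfLE_app _ _ _ E

variable [HasExt.{w'} 𝒜]

theorem step (n : ℕ) (m : ℤ) (W : C) (k : ℕ) (hk : (k : ℤ) = n + 1 + m)
    (hs : Subsingleton (Abelian.Ext.{w'} (S.P W)
      ((homologyFunctor 𝒜 (-((n + 1 : ℕ) : ℤ))).obj E) k)) :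
    Function.Injective (Preadditive.rightComp
        ((DerivedCategory.singleFunctor 𝒜 0).obj (S.P W))
        ((CategoryTheory.shiftFunctor _ m).map (CohCx.truncTowerMap E n))) ∧
      Function.Surjective (Preadditive.rightComp
        ((DerivedCategory.singleFunctor 𝒜 0).obj (S.P W))
        ((CategoryTheory.shiftFunctor _ (m - 1)).map (CohCx.truncTowerMap E n))) := by
  obtain ⟨Z, u', v', hT⟩ := Pretriangulated.distinguished_cocone_triangle (CohCx.truncTowerMap E n)
  obtain ⟨hGE, hLE, ⟨e0⟩⟩ := cone_truncGE E (-((n + 1 : ℕ) : ℤ)) (-(n : ℤ))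
    (by push_cast; ring) Z u' v' hT
  have hsZ := subsingleton_hom_shift Z (-((n + 1 : ℕ) : ℤ) - 1) hGE hLE
    ((homologyFunctor 𝒜 (-((n + 1 : ℕ) : ℤ))).obj E) e0 (S.P W) (m - 1) k
    (by rw [hk]; push_cast; ring) hs
  exact hom_inj_surj _ hT _ m hsZ

theorem milnor_conditions (m : ℤ) (W : C) (p : ℤ → ℤ) (nV : ℕ) (h1 : -m ≤ nV)
    (h2 : p m - m ≤ nV)
    (hW : ∀ k : ℕ, p m < k →
      Subsingleton (Abelian.Ext.{w'} (S.P W) ((homologyFunctor 𝒜 (m - k)).obj E) k)) :
    CohCx.LimOneIsZero (fun n => S.HDU (CohCx.truncTower E n) (m - 1) W)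
        (fun n => Preadditive.rightComp _
          ((CategoryTheory.shiftFunctor _ (m - 1)).map (CohCx.truncTowerMap E n))) ∧
      ∀ k : ℕ, Function.Injective
        (Preadditive.rightComp _ ((CategoryTheory.shiftFunctor _ m).map
          (CohCx.transition (CohCx.truncTower E) (CohCx.truncTowerMap E) nV k)) :
          S.HDU (CohCx.truncTower E (nV + k)) m W → S.HDU (CohCx.truncTower E nV) m W) := by
  have hstep : ∀ n : ℕ, nV ≤ n →
      Function.Injective (Preadditive.rightComp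
        ((DerivedCategory.singleFunctor 𝒜 0).obj (S.P W))
        ((CategoryTheory.shiftFunctor _ m).map (CohCx.truncTowerMap E n))) ∧
      Function.Surjective (Preadditive.rightComp
        ((DerivedCategory.singleFunctor 𝒜 0).obj (S.P W))
        ((CategoryTheory.shiftFunctor _ (m - 1)).map (CohCx.truncTowerMap E n))) := by
    intro n hn
    have hk : (((n : ℤ) + 1 + m).toNat : ℤ) = n + 1 + m := Int.toNat_of_nonneg (by omega)
    have hs := hW ((n : ℤ) + 1 + m).toNat (by rw [hk]; omega)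
    have e : m - (((n : ℤ) + 1 + m).toNat : ℤ) = -((n + 1 : ℕ) : ℤ) := by
      rw [hk]; push_cast; ring
    rw [e] at hs
    exact S.step E n m W _ hk hs
  exact ⟨limOneIsZero_of_eventually_surjective nV _ _ (fun n hn => (hstep n hn).2),
    transition_injective _ _ _ m nV (fun n hn => (hstep n hn).1)⟩

theorem surj_of_inj {F G H : 𝒜} (Φ : F ⟶ G) (α : G ⟶ H) (π : F ⟶ H)
    (hfac : Φ ≫ α = π) [IsIso π] (V : C) (hinj : Function.Injective (S.sc α V)) :
    Function.Surjective (S.sc Φ V) := by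
  intro γ
  refine ⟨S.sc (inv π) V (S.sc α V γ), hinj ?_⟩
  rw [← S.sc_comp Φ α, hfac, ← S.sc_comp (inv π) π, IsIso.inv_hom_id, sc_id]

variable [IsGrothendieckAbelian.{u} 𝒜]

/-- Port of `S0881`: `E` is the derived limit of its truncations under locally bounded vanishing of
the `Ext` groups `Ext^k(P V_i, H^{m-k}(E))`. -/
theorem isRlimVia_truncTower [HasProduct (CohCx.truncTower E)] (B : Set C)
    (hB : ∀ U : C, ∃ (ι : Type u) (Y : ι → C) (f : ∀ i, Y i ⟶ U),
      Sieve.ofArrows Y f ∈ J U ∧ ∀ i, Y i ∈ B)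
    (h : ∀ V ∈ B, ∃ p : ℤ → ℤ, ∀ T ∈ J V, ∃ (ι : Type u) (Y : ι → C) (f : ∀ i, Y i ⟶ V),
      (∀ i, T.arrows (f i)) ∧ Sieve.ofArrows Y f ∈ J V ∧
      ∀ (i : ι) (m : ℤ) (k : ℕ), p m < k →
        Subsingleton (Abelian.Ext.{w'} (S.P (Y i)) ((homologyFunctor 𝒜 (m - k)).obj E) k)) :
    CohCx.IsRlimVia (CohCx.truncTower E) (CohCx.truncTowerMap E) E (CohCx.toTruncTower E) := by
  obtain ⟨L, a, hL⟩ := exists_isRlimVia (CohCx.truncTower E) (CohCx.truncTowerMap E)
  obtain ⟨φ, hφ⟩ := exists_lift _ _ L a hL E (CohCx.toTruncTower E)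
    (fun n => toTruncTower_comp E n)
  suffices hiso : IsIso φ by
    have h3 := isRlimVia_of_iso _ _ L a hL E φ
    have e : (fun n => φ ≫ a n) = CohCx.toTruncTower E := funext hφ
    rw [e] at h3
    exact h3
  rw [DerivedCategory.isIso_iff]
  intro m
  have hfac : ∀ n, (homologyFunctor 𝒜 m).map φ ≫ (homologyFunctor 𝒜 m).map (a n) =
      (homologyFunctor 𝒜 m).map (CohCx.toTruncTower E n) := fun n => by
    rw [← Functor.map_comp, hφ]
  have hisoP : ∀ n : ℕ, -m ≤ n →
      IsIso ((homologyFunctor 𝒜 m).map (CohCx.toTruncTower E n)) := fun n hn =>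
    isIso_homology_truncGEπ E (-(n : ℤ)) m (by omega)
  have hmono : Mono ((homologyFunctor 𝒜 m).map φ) := by
    haveI := hisoP (-m).toNat (Int.self_le_toNat _)
    exact mono_of_mono_fac (hfac (-m).toNat)
  have hsurjB : ∀ V ∈ B, Function.Surjective (S.sc ((homologyFunctor 𝒜 m).map φ) V) := by
    intro V hV
    obtain ⟨p, hp⟩ := h V hV
    have h1 : -m ≤ ((max (-m) (p m - m)).toNat : ℤ) :=
      le_trans (le_max_left _ _) (Int.self_le_toNat _)
    have h2 : p m - m ≤ ((max (-m) (p m - m)).toNat : ℤ) :=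
      le_trans (le_max_right _ _) (Int.self_le_toNat _)
    have hinj := S.sections_injective (CohCx.truncTower E) (CohCx.truncTowerMap E) L a hL V m
      (max (-m) (p m - m)).toNat (fun T hT => by
        obtain ⟨ι, Y, f, hf, hcov, hY⟩ := hp T hT
        exact ⟨ι, Y, f, hf, hcov, fun i =>
          S.milnor_conditions E m (Y i) p _ h1 h2 (fun k hk => hY i m k hk)⟩)
    haveI := hisoP _ h1
    exact S.surj_of_inj _ _ _ (hfac _) V hinj
  have hepi : Epi ((homologyFunctor 𝒜 m).map φ) := by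
    apply S.epi_of_isLocallySurjective
    constructor
    intro U s
    obtain ⟨ι, Y, f, hcov, hYB⟩ := hB U
    refine J.superset_covering ?_ hcov
    intro W g hg
    obtain ⟨i, k, rfl⟩ := (Sieve.mem_ofArrows_iff Y f _).1 hg
    apply Sieve.downward_closed
    obtain ⟨t', ht'⟩ := hsurjB (Y i) (hYB i) (S.rs _ (f i) s)
    exact ⟨t', ht'⟩
  exact isIso_of_mono_of_epi _

end SecStr

end Groth.Agent.H5.RlimMod
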